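import Cfsg.Agent.CosetCert.Fi22Order.Main

/-!
# The words of the presentation of Fi22
-/

set_option autoImplicit false
set_option maxRecDepth 100000
set_option maxHeartbeats 2000000

namespace Cfsg.Agent.Fi22Mult

open Cfsg.Spor Cfsg.Agent.CosetCert

/-- The relators of Fi22. -/
abbrev rels22 : Set (FreeGroup Fi22.Gen) :=
  coxRelators Fi22.edges ∪ {r | r ∈ Fi22.extra}

/-- The label of two generators. -/
abbrev lab (x y : Fi22.Gen) : ℕ := coxLabel Fi22.edges x y

/-- The letters of the first E7-type Coxeter element. -/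
def AS : List Fi22.Gen := [.a, .b, .c, .d, .e, .f, .h]
/-- The letters of the second E7-type Coxeter element. -/
def US : List Fi22.Gen := [.b, .c, .d, .e, .f, .g, .h]
/-- The letters of the third E7-type Coxeter element. -/
def ZS : List Fi22.Gen := [.c, .d, .e, .f, .g, .h, .i]
/-- The spider. -/
def SS : List Fi22.Gen := [.d, .c, .b, .d, .e, .f, .d, .h, .i]

/-- A positive word. -/
def sgn {β : Type*} (l : List β) : List (β × Bool) := l.map fun x => (x, true)

/-- The word `(abcdefh)^9`. -/
def AW : List Fi22.Gen := (List.replicate 9 AS).flatten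
/-- The word `(bcdefgh)^9`. -/
def UW : List Fi22.Gen := (List.replicate 9 US).flatten
/-- The word `(cdefghi)^9`. -/
def ZW : List Fi22.Gen := (List.replicate 9 ZS).flatten
/-- The spider word. -/
def SW : List Fi22.Gen := (List.replicate 10 SS).flatten

theorem mk_sgn {β : Type*} {M : Type*} [Group M] (f : FreeGroup β →* M) (l : List β) :
    f (FreeGroup.mk (sgn l)) = (l.map fun x => f (FreeGroup.of x)).prod := by
  induction l with
  | nil => exact map_one f
  | cons x l ih =>
    rw [List.map_cons, List.prod_cons, ← ih, ← map_mul, FreeGroup.of, FreeGroup.mul_mk]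
    rfl

theorem G_rel (x y : Fi22.Gen) :
    ((PresentedGroup.of x : Fi22) * PresentedGroup.of y) ^ lab x y = 1 := by
  have h : ∀ x : Fi22.Gen, x ∈ coxNodes Fi22.edges := fun x => by cases x <;> decide +kernel
  exact PresentedGroup.one_of_mem (rels := rels22)
    (x := (FreeGroup.of x * FreeGroup.of y) ^ coxLabel Fi22.edges x y)
    (Or.inl ⟨x, h x, y, h y, rfl⟩)

theorem lab_self (x : Fi22.Gen) : lab x x = 1 := by simp [lab, coxLabel]

theorem G_sq (x : Fi22.Gen) : (PresentedGroup.of x : Fi22) * PresentedGroup.of x = 1 := by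
  have := G_rel x x
  rwa [lab_self, pow_one] at this

theorem G_braid {x y : Fi22.Gen} (h : lab x y = 3) :
    (PresentedGroup.of x : Fi22) * PresentedGroup.of y * PresentedGroup.of x =
      PresentedGroup.of y * PresentedGroup.of x * PresentedGroup.of y := by
  have h3 := G_rel x y
  rw [h] at h3
  have hx := G_sq x
  have hy := G_sq y
  generalize (PresentedGroup.of x : Fi22) = a at *
  generalize (PresentedGroup.of y : Fi22) = b at *
  calc a * b * a = (a * b) ^ 3 * (b * a * b) := by
        rw [pow_succ, pow_succ, pow_one]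
        simp only [mul_assoc]
        rw [← mul_assoc b b, hy, one_mul, ← mul_assoc a a (b), hx, one_mul, hy, mul_one]
    _ = b * a * b := by rw [h3, one_mul]

theorem G_comm {x y : Fi22.Gen} (h : lab x y = 2) :
    (PresentedGroup.of x : Fi22) * PresentedGroup.of y =
      PresentedGroup.of y * PresentedGroup.of x := by
  have h2 := G_rel x y
  rw [h] at h2
  have hx := G_sq x
  have hy := G_sq y
  generalize (PresentedGroup.of x : Fi22) = a at *
  generalize (PresentedGroup.of y : Fi22) = b at *
  calc a * b = (a * b) ^ 2 * (b * a) := by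
        rw [pow_two]
        simp only [mul_assoc]
        rw [← mul_assoc b b, hy, one_mul, hx, mul_one]
    _ = b * a := by rw [h2, one_mul]

theorem G_word_A : (PresentedGroup.mk rels22 (FreeGroup.mk (sgn AW)) : Fi22) = 1 :=
  PresentedGroup.one_of_mem (Or.inr (by
    show FreeGroup.mk (sgn AW) ∈ Fi22.extra
    decide +kernel))

theorem G_word_S : (PresentedGroup.mk rels22 (FreeGroup.mk (sgn SW)) : Fi22) = 1 :=
  PresentedGroup.one_of_mem (Or.inr (by
    show FreeGroup.mk (sgn SW) ∈ Fi22.extra
    decide +kernel))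

theorem G_word_U : (PresentedGroup.mk rels22 (FreeGroup.mk (sgn UW)) : Fi22) = 1 :=
  PresentedGroup.one_of_mem (Or.inr (by
    show FreeGroup.mk (sgn UW) ∈ Fi22.extra
    decide +kernel))

theorem G_word_Z : (PresentedGroup.mk rels22 (FreeGroup.mk (sgn ZW)) : Fi22) = 1 := by
  obtain ⟨φ, π, hπ, hfwd⟩ := Data.enumeration Fi22U62.valid Fi22U62.spells
  have hinj : Function.Injective φ := by
    rw [← MonoidHom.ker_eq_bot_iff]
    rcases (Fi22Order.order_and_simple.1).eq_bot_or_eq_top_of_normal φ.ker inferInstance with h | h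
    · exact h
    · exfalso
      have hfix : ∀ g : Fi22, ∀ c, φ g c = c := fun g c => by
        rw [MonoidHom.mem_ker.1 (h ▸ Subgroup.mem_top g : g ∈ φ.ker)]
        rfl
      have hsub : ∀ q, q = π ⟨0, Fi22U62.valid.n_pos⟩ := fun q => by
        obtain ⟨g, rfl⟩ := QuotientGroup.mk_surjective q
        obtain ⟨g₀, hg₀⟩ := QuotientGroup.mk_surjective (π ⟨0, Fi22U62.valid.n_pos⟩)
        have := hπ (g * g₀⁻¹) ⟨0, Fi22U62.valid.n_pos⟩
        rw [hfix, ← hg₀, MulAction.Quotient.smul_mk] at this
        rw [← hg₀, this]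
        simp
      have h1 : π.symm (π ⟨1, by decide +kernel⟩) = π.symm (π ⟨0, Fi22U62.valid.n_pos⟩) :=
        congrArg π.symm (hsub _)
      rw [Equiv.symm_apply_apply, Equiv.symm_apply_apply] at h1
      exact absurd (congrArg Fin.val h1) (by decide)
  apply hinj
  rw [map_one, ← inv_eq_one]
  refine Equiv.ext fun c => Fin.ext ?_
  rw [hfwd, Equiv.Perm.one_apply]
  exact Nat.eq_of_beq_eq_true ((allFrom_iff
    (fun c => Nat.beq (Fi22U62.data.fwd ((sgn ZW).map (Data.code Fi22U62.data.iv Fi22U62.enc)) c) c)
    0 3510).1 (by decide +kernel) c (Nat.zero_le _) (by rw [Nat.zero_add]; exact c.isLt))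

end Cfsg.Agent.Fi22Mult
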