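import Cfsg.Agent.Fi22Mult.Basic
import Cfsg.Agent.Fi22Mult.Top.Defs

/-!
# The presentation of the six-fold cover of Fi22

The Coxeter relations and `(abcdefh)^9 = 1`, with the two other relators made central.
-/

set_option autoImplicit false
set_option maxRecDepth 100000

namespace Cfsg.Agent.Fi22Mult

open Cfsg.Spor Cfsg.Agent.CosetCert

/-- The generators of Fi22 in a fixed order. -/
def genList : List Fi22.Gen := [.a, .b, .c, .d, .e, .f, .g, .h, .i]

theorem mem_genList (x : Fi22.Gen) : x ∈ genList := by cases x <;> decide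

/-- The word that says that `W` commutes with the involution `x`. -/
def comWord (W : List Fi22.Gen) (x : Fi22.Gen) : List (Fi22.Gen × Bool) :=
  sgn (W ++ ([x] ++ (W.reverse ++ [x])))

/-- The relators shared with the certificate of the index. -/
def RL0 : List (List (Fi22.Gen × Bool)) :=
  Top.relWords.map fun l => l.map fun a => (Top.ren a.1, a.2)

/-- The relators of the cover. -/
def RLQ : List (List (Fi22.Gen × Bool)) :=
  RL0 ++ (genList.map (comWord UW) ++ genList.map (comWord SW))

/-- The relators as a set. -/
abbrev RQ : Set (FreeGroup Fi22.Gen) := wordRels RLQ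

theorem sq_mem (x : Fi22.Gen) : [(x, true), (x, true)] ∈ RL0 := by
  cases x <;> decide +kernel

theorem mem_RLQ_com (W : List Fi22.Gen) (x : Fi22.Gen) (hW : W = UW ∨ W = SW) :
    comWord W x ∈ RLQ := by
  rcases hW with rfl | rfl
  · exact List.mem_append_right _ (List.mem_append_left _ (List.mem_map_of_mem (mem_genList x)))
  · exact List.mem_append_right _ (List.mem_append_right _ (List.mem_map_of_mem (mem_genList x)))

/-- Every relator is one of the shared ones or a commutation. -/
theorem RLQ_cases {l : List (Fi22.Gen × Bool)} (h : l ∈ RLQ) :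
    l ∈ RL0 ∨ ∃ W x, (W = UW ∨ W = SW) ∧ l = comWord W x := by
  rcases List.mem_append.1 h with h | h
  · exact Or.inl h
  · rcases List.mem_append.1 h with h | h <;> obtain ⟨x, -, rfl⟩ := List.mem_map.1 h
    · exact Or.inr ⟨UW, x, Or.inl rfl, rfl⟩
    · exact Or.inr ⟨SW, x, Or.inr rfl, rfl⟩

section lift

variable {M : Type*} [Group M] {f : Fi22.Gen → M}

theorem prod_rev_one (hsq : ∀ y, f y * f y = 1) :
    ∀ W : List Fi22.Gen, (W.map f).prod * (W.reverse.map f).prod = 1
  | [] => by simp
  | x :: W => by
    rw [List.reverse_cons, List.map_append, List.prod_append, List.map_cons, List.prod_cons,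
      List.map_singleton, List.prod_singleton]
    calc f x * (W.map f).prod * ((W.reverse.map f).prod * f x)
        = f x * ((W.map f).prod * (W.reverse.map f).prod) * f x := by simp only [mul_assoc]
      _ = 1 := by rw [prod_rev_one hsq W, mul_one, hsq]

theorem lift_sgn (f : Fi22.Gen → M) (l : List Fi22.Gen) :
    FreeGroup.lift f (FreeGroup.mk (sgn l)) = (l.map f).prod :=
  (mk_sgn (FreeGroup.lift f) l).trans (by simp)

/-- The commutation word says exactly that the two elements commute. -/
theorem lift_com (hsq : ∀ y, f y * f y = 1) (W : List Fi22.Gen) (x : Fi22.Gen) :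
    FreeGroup.lift f (FreeGroup.mk (comWord W x)) = 1 ↔ Commute (W.map f).prod (f x) := by
  have hr : (W.reverse.map f).prod = ((W.map f).prod)⁻¹ :=
    eq_inv_of_mul_eq_one_right (prod_rev_one hsq W)
  rw [comWord, lift_sgn]
  simp only [List.map_append, List.prod_append, List.map_singleton, List.prod_singleton, hr]
  rw [← commutatorElement_eq_one_iff_commute, commutatorElement_def]
  rw [inv_eq_of_mul_eq_one_right (hsq x)]
  simp only [mul_assoc]

theorem lift_mk_eq {rels : Set (FreeGroup Fi22.Gen)} (θ : PresentedGroup rels →* M)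
    (hθ : ∀ x, θ (PresentedGroup.of x) = f x) (w : List Fi22.Gen) :
    θ (PresentedGroup.mk rels (FreeGroup.mk (sgn w))) = (w.map f).prod := by
  rw [mk_sgn, map_list_prod, List.map_map]
  exact congrArg List.prod (List.map_congr_left fun x _ => hθ x)

end lift

/-- In the cover the generators are involutions. -/
theorem Q_sq (x : Fi22.Gen) :
    (PresentedGroup.of x : PresentedGroup RQ) * PresentedGroup.of x = 1 := by
  have h : PresentedGroup.mk RQ (FreeGroup.mk (sgn [x, x])) = 1 :=
    PresentedGroup.one_of_mem (List.mem_map_of_mem (List.mem_append_left _ (sq_mem x)))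
  rw [mk_sgn] at h
  rw [← h]
  simp only [List.map_cons, List.map_nil, List.prod_cons, List.prod_nil, mul_one]
  rfl

/-- In the cover the two words are central. -/
theorem Q_central {W : List Fi22.Gen} (hW : W = UW ∨ W = SW) :
    PresentedGroup.mk RQ (FreeGroup.mk (sgn W)) ∈ Subgroup.center (PresentedGroup RQ) := by
  have hc : Subgroup.centralizer ({PresentedGroup.mk RQ (FreeGroup.mk (sgn W))} :
      Set (PresentedGroup RQ)) = ⊤ := by
    rw [eq_top_iff, ← PresentedGroup.closure_range_of, Subgroup.closure_le]
    rintro _ ⟨x, rfl⟩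
    rw [SetLike.mem_coe, Subgroup.mem_centralizer_singleton_iff]
    have h : PresentedGroup.mk RQ (FreeGroup.mk (comWord W x)) = 1 :=
      PresentedGroup.one_of_mem (List.mem_map_of_mem (mem_RLQ_com W x hW))
    have hlift : FreeGroup.lift (fun y => (PresentedGroup.of y : PresentedGroup RQ)) =
        PresentedGroup.mk RQ := FreeGroup.ext_hom _ _ fun y => by simp [PresentedGroup.of]
    rw [← hlift] at h ⊢
    have := (lift_com Q_sq W x).1 h
    rw [lift_sgn]
    exact this.eq.symm
  refine Subgroup.mem_center_iff.2 fun g => ?_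
  exact Subgroup.mem_centralizer_singleton_iff.1 (hc ▸ Subgroup.mem_top g)

end Cfsg.Agent.Fi22Mult
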