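import Cfsg.Agent.Fi22Mult.Cover
import Cfsg.Agent.Fi22Mult.ThreeData

/-!
# A representation in which the spider word has order three
-/

set_option autoImplicit false
set_option maxRecDepth 100000
set_option maxHeartbeats 2000000

namespace Cfsg.Agent.Fi22Mult

open Cfsg.Spor Cfsg.Agent.CosetCert

/-- The linear map with the given images of the basis vectors. -/
def fold : List Nat → Nat → Nat
  | [], _ => 0
  | c :: l, v => (bif v.testBit 0 then c else 0) ^^^ fold l (v >>> 1)

/-- The map of a generator: linear below `2 ^ 54`, the identity above. -/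
def app (x : Fi22.Gen) (v : Nat) : Nat := if v < 2 ^ 54 then fold (cols x) v else v

/-- The map of a word, the last letter first. -/
def run (w : List Fi22.Gen) (v : Nat) : Nat := w.foldr app v

theorem fold_xor : ∀ (l : List Nat) (v w : Nat), fold l (v ^^^ w) = fold l v ^^^ fold l w
  | [], v, w => by simp [fold]
  | c :: l, v, w => by
    simp only [fold, Nat.testBit_xor, Nat.shiftRight_xor_distrib, fold_xor l]
    cases v.testBit 0 <;> cases w.testBit 0 <;>
      simp [Nat.xor_assoc, Nat.xor_left_comm]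

theorem fold_lt : ∀ (l : List Nat) (v : Nat), (∀ c ∈ l, c < 2 ^ 54) → fold l v < 2 ^ 54
  | [], _, _ => Nat.two_pow_pos 54
  | c :: l, v, h => Nat.xor_lt_two_pow
      (by cases v.testBit 0
          · exact Nat.two_pow_pos 54
          · exact h c List.mem_cons_self)
      (fold_lt l _ fun d hd => h d (List.mem_cons_of_mem _ hd))

/-- Linear below `2 ^ 54`. -/
def Lin (f : Nat → Nat) : Prop :=
  (∀ v < 2 ^ 54, f v < 2 ^ 54) ∧ ∀ v < 2 ^ 54, ∀ w < 2 ^ 54, f (v ^^^ w) = f v ^^^ f w

theorem lin_fold {l : List Nat} (h : ∀ c ∈ l, c < 2 ^ 54) : Lin (fold l) :=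
  ⟨fun v _ => fold_lt l v h, fun v _ w _ => fold_xor l v w⟩

theorem cols_lt (x : Fi22.Gen) : ∀ c ∈ cols x, c < 2 ^ 54 := by
  cases x <;> decide +kernel

theorem lin_app (x : Fi22.Gen) : Lin (app x) := by
  have h := lin_fold (cols_lt x)
  refine ⟨fun v hv => ?_, fun v hv w hw => ?_⟩
  · rw [app, if_pos hv]; exact h.1 v hv
  · rw [app, if_pos (Nat.xor_lt_two_pow hv hw), h.2 v hv w hw, app, app, if_pos hv, if_pos hw]

theorem Lin.comp {f g : Nat → Nat} (hf : Lin f) (hg : Lin g) : Lin fun v => f (g v) :=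
  ⟨fun v hv => hf.1 _ (hg.1 v hv), fun v hv w hw => by
    show f (g (v ^^^ w)) = f (g v) ^^^ f (g w)
    rw [hg.2 v hv w hw, hf.2 _ (hg.1 v hv) _ (hg.1 w hw)]⟩

theorem lin_run : ∀ w : List Fi22.Gen, Lin (run w)
  | [] => ⟨fun _ hv => hv, fun _ _ _ _ => rfl⟩
  | x :: w => (lin_app x).comp (lin_run w)

theorem Lin.ext {f g : Nat → Nat} (hf : Lin f) (hg : Lin g)
    (h : ((List.range 54).all fun k => Nat.beq (f (2 ^ k)) (g (2 ^ k))) = true) :
    ∀ v < 2 ^ 54, f v = g v := by
  have hb : ∀ k < 54, f (2 ^ k) = g (2 ^ k) := fun k hk =>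
    Nat.eq_of_beq_eq_true (List.all_eq_true.1 h k (List.mem_range.2 hk))
  suffices ∀ k ≤ 54, ∀ v < 2 ^ k, f v = g v from this 54 le_rfl
  intro k
  induction k with
  | zero =>
    intro _ v hv
    obtain rfl : v = 0 := by omega
    have e1 := hf.2 0 (Nat.two_pow_pos 54) 0 (Nat.two_pow_pos 54)
    have e2 := hg.2 0 (Nat.two_pow_pos 54) 0 (Nat.two_pow_pos 54)
    simp only [Nat.xor_self] at e1 e2
    rw [e1, e2]
  | succ k ih =>
    intro hk v hv
    by_cases hlt : v < 2 ^ k
    · exact ih (by omega) v hlt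
    have hw : v ^^^ 2 ^ k < 2 ^ k := by
      refine Nat.lt_pow_two_of_testBit _ fun i hi => ?_
      rcases Nat.lt_or_ge k i with h' | h'
      · rw [Nat.testBit_xor, Nat.testBit_two_pow_of_ne (Nat.ne_of_lt h'),
          Nat.testBit_eq_false_of_lt (lt_of_lt_of_le hv (Nat.pow_le_pow_right (by norm_num) h'))]
        rfl
      · obtain rfl : i = k := le_antisymm h' hi
        rw [Nat.testBit_xor, Nat.testBit_two_pow_self,
          Nat.testBit_of_two_pow_le_and_two_pow_add_one_gt (Nat.le_of_not_lt hlt) hv]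
        rfl
    have hv' : v = (v ^^^ 2 ^ k) ^^^ 2 ^ k := by
      rw [Nat.xor_assoc, Nat.xor_self, Nat.xor_zero]
    have hpk : 2 ^ k < 2 ^ 54 := Nat.pow_lt_pow_right (by norm_num) (by omega)
    rw [hv', hf.2 _ (hw.trans hpk) _ hpk, hg.2 _ (hw.trans hpk) _ hpk, ih (by omega) _ hw,
      hb k (by omega)]

theorem app_big (x : Fi22.Gen) {v : Nat} (h : ¬ v < 2 ^ 54) : app x v = v := if_neg h

theorem run_big : ∀ (w : List Fi22.Gen) {v : Nat}, ¬ v < 2 ^ 54 → run w v = v
  | [], _, _ => rfl
  | x :: w, v, h => by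
    show app x (run w v) = v
    rw [run_big w h, app_big x h]

theorem app_invol (x : Fi22.Gen) : Function.Involutive (app x) := fun v => by
  by_cases hv : v < 2 ^ 54
  · exact ((lin_app x).comp (lin_app x)).ext (g := fun v => v)
      ⟨fun _ h => h, fun _ _ _ _ => rfl⟩ (by cases x <;> decide +kernel) v hv
  · rw [app_big x hv, app_big x hv]

/-- The permutation of a generator. -/
def perm (x : Fi22.Gen) : Equiv.Perm Nat := (app_invol x).toPerm

theorem perm_apply (x : Fi22.Gen) (v : Nat) : perm x v = app x v := rfl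

theorem prod_perm (v : Nat) : ∀ w : List Fi22.Gen, (w.map perm).prod v = run w v
  | [] => rfl
  | x :: w => by
    rw [List.map_cons, List.prod_cons, Equiv.Perm.mul_apply, prod_perm v w]
    rfl

theorem prod_perm_eq_one {w : List Fi22.Gen}
    (h : ((List.range 54).all fun k => Nat.beq (run w (2 ^ k)) (2 ^ k)) = true) :
    (w.map perm).prod = 1 := by
  refine Equiv.ext fun v => ?_
  rw [prod_perm, Equiv.Perm.one_apply]
  by_cases hv : v < 2 ^ 54
  · exact (lin_run w).ext (g := fun v => v) ⟨fun _ h => h, fun _ _ _ _ => rfl⟩ h v hv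
  · exact run_big w hv

theorem colsS_lt : ∀ c ∈ colsS, c < 2 ^ 54 := by decide +kernel

theorem run_SW {v : Nat} (hv : v < 2 ^ 54) : run SW v = fold colsS v :=
  (lin_run SW).ext (lin_fold colsS_lt) (by decide +kernel) v hv

theorem perm_sq (x : Fi22.Gen) : perm x * perm x = 1 := Equiv.ext fun v => app_invol x v

theorem SW_commute (x : Fi22.Gen) : Commute (SW.map perm).prod (perm x) := by
  refine Equiv.ext fun v => ?_
  simp only [Equiv.Perm.mul_apply, prod_perm, perm_apply]
  by_cases hv : v < 2 ^ 54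
  · rw [run_SW ((lin_app x).1 v hv), run_SW hv]
    exact ((lin_fold colsS_lt).comp (lin_app x)).ext ((lin_app x).comp (lin_fold colsS_lt))
      (by cases x <;> decide +kernel) v hv
  · rw [app_big x hv, run_big SW hv, app_big x hv]

theorem UW_prod : (UW.map perm).prod = 1 := prod_perm_eq_one (by decide +kernel)

theorem RL0_ok : (RL0.all fun l => (l.all fun a => a.2) &&
    ((List.range 54).all fun k => Nat.beq (run (l.map Prod.fst) (2 ^ k)) (2 ^ k))) = true := by
  decide +kernel

theorem perm_rels : ∀ r ∈ RQ, FreeGroup.lift perm r = 1 := by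
  intro r hr
  obtain ⟨l, hl, rfl⟩ := List.mem_map.1 hr
  rcases RLQ_cases hl with hl | ⟨W, x, hW, rfl⟩
  · have h := List.all_eq_true.1 RL0_ok l hl
    rw [Bool.and_eq_true] at h
    have hl' : l = sgn (l.map Prod.fst) := by
      rw [sgn, List.map_map]
      conv_lhs => rw [← List.map_id l]
      refine List.map_congr_left fun a ha => ?_
      exact Prod.ext rfl (List.all_eq_true.1 h.1 a ha)
    rw [hl', lift_sgn]
    exact prod_perm_eq_one h.2
  · refine (lift_com perm_sq W x).2 ?_
    rcases hW with rfl | rfl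
    · rw [UW_prod]; exact Commute.one_left _
    · exact SW_commute x

/-- The representation of the cover. -/
noncomputable def toThree : PresentedGroup RQ →* Equiv.Perm Nat := PresentedGroup.toGroup perm_rels

theorem toThree_SW : orderOf (toThree (PresentedGroup.mk RQ (FreeGroup.mk (sgn SW)))) = 3 := by
  have e : toThree (PresentedGroup.mk RQ (FreeGroup.mk (sgn SW))) = (SW.map perm).prod :=
    lift_mk_eq toThree (fun x => PresentedGroup.toGroup.of perm_rels) SW
  rw [e]
  have : Fact (Nat.Prime 3) := ⟨by norm_num⟩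
  refine orderOf_eq_prime ?_ fun h => ?_
  · refine Equiv.ext fun v => ?_
    rw [pow_succ, pow_succ, pow_one, Equiv.Perm.mul_apply, Equiv.Perm.mul_apply, prod_perm,
      prod_perm, prod_perm, Equiv.Perm.one_apply]
    by_cases hv : v < 2 ^ 54
    · have h1 := (lin_fold colsS_lt).1 v hv
      rw [run_SW hv, run_SW h1, run_SW ((lin_fold colsS_lt).1 _ h1)]
      exact (((lin_fold colsS_lt).comp (lin_fold colsS_lt)).comp (lin_fold colsS_lt)).ext
        (g := fun v => v) ⟨fun _ h => h, fun _ _ _ _ => rfl⟩ (by decide +kernel) v hv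
    · rw [run_big SW hv, run_big SW hv, run_big SW hv]
  · have h1 := Equiv.ext_iff.1 h 1
    rw [prod_perm, run_SW (by norm_num), Equiv.Perm.one_apply] at h1
    exact absurd h1 (by decide +kernel)

end Cfsg.Agent.Fi22Mult
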