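import Cfsg.Agent.Fi22Mult.Top.Valid
import Cfsg.Agent.Fi22Mult.Top.CheckDeck

/-!
# The cover acts on the 28160 cosets, with the second E7 word of order two
-/

set_option autoImplicit false
set_option maxRecDepth 100000
set_option maxHeartbeats 2000000

namespace Cfsg.Agent.Fi22Mult

open Cfsg.Spor Cfsg.Agent.CosetCert

theorem codeW_eq (l : List (Fin 9)) :
    (sgn l).map (Data.code Top.data.iv Top.enc) = l.map Top.enc := by
  rw [sgn, List.map_map]; rfl

/-- A homomorphism from the cover in which the image of `(bcdefgh)^9` has order two. -/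
theorem exists_two :
    ∃ θ : PresentedGroup RQ →* Equiv.Perm (Fin Top.data.n),
      orderOf (θ (PresentedGroup.mk RQ (FreeGroup.mk (sgn UW)))) = 2 := by
  obtain ⟨φ, π, -, hfwd⟩ := Data.enumeration Top.valid Top.spells
  obtain ⟨f, hfdef⟩ : ∃ f : Fi22.Gen → Equiv.Perm (Fin Top.data.n),
      f = fun x => φ (PresentedGroup.of (num x)) := ⟨_, rfl⟩
  have hwrap : ∀ W : List Fi22.Gen,
      (W.map f).prod = φ (PresentedGroup.mk (wordRels Top.relWords) (FreeGroup.mk (sgn (W.map num)))) := by
    intro W
    rw [mk_sgn, map_list_prod, List.map_map, List.map_map, hfdef]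
    rfl
  have hchk := Top.deck_ok
  have hn : Top.data.n = 28160 := rfl
  have hone : ∀ x : Fi22.Gen, φ (PresentedGroup.of (num x)) =
      φ (PresentedGroup.mk (wordRels Top.relWords) (FreeGroup.mk (sgn [num x]))) := fun x => by
    rw [mk_sgn]; simp only [List.map_cons, List.map_nil, List.prod_cons, List.prod_nil, mul_one]; rfl
  have hx : ∀ (x : Fi22.Gen) (c : Fin Top.data.n),
      (((f x)⁻¹ c : Fin Top.data.n) : Nat) = Top.data.T c (num x).val := fun x c => by
    rw [hfdef]; simp only []
    rw [hone, hfwd, codeW_eq]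
    simp only [List.map_cons, List.map_nil, Data.fwd_cons, Data.fwd_nil]
    rfl
  have hU : ∀ c : Fin Top.data.n, (((UW.map f).prod⁻¹ c : Fin Top.data.n) : Nat) = deck c := fun c => by
    rw [hwrap, hfwd]
    have := hchk c (hn ▸ c.isLt)
    simp only [checkDeck, Bool.and_eq_true] at this
    exact Nat.eq_of_beq_eq_true this.1
  have hS : (SW.map f).prod = 1 := by
    rw [← inv_eq_one]
    refine Equiv.ext fun c => Fin.ext ?_
    rw [hwrap, hfwd, Equiv.Perm.one_apply]
    have := hchk c (hn ▸ c.isLt)
    simp only [checkDeck, Bool.and_eq_true] at this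
    exact Nat.eq_of_beq_eq_true this.2.2.1
  have hcomm : ∀ x, Commute (UW.map f).prod (f x) := by
    intro x
    rw [← inv_inv (UW.map f).prod, ← inv_inv (f x)]
    refine Commute.inv_inv ?_
    refine Equiv.ext fun c => Fin.ext ?_
    rw [Equiv.Perm.mul_apply, Equiv.Perm.mul_apply, hU, hx, hx, hU]
    have := hchk c (hn ▸ c.isLt)
    simp only [checkDeck, Bool.and_eq_true] at this
    exact Nat.eq_of_beq_eq_true
      (List.all_eq_true.1 this.2.2.2 (num x).val (List.mem_range.2 (num x).isLt))
  have hsq : ∀ x, f x * f x = 1 := fun x => by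
    rw [hfdef]; simp only []
    have h := PresentedGroup.one_of_mem (rels := wordRels Top.relWords)
      (x := FreeGroup.mk [(num x, true), (num x, true)]) (List.mem_map_of_mem (by
        cases x <;> decide +kernel))
    rw [← map_mul, PresentedGroup.of, ← map_mul, FreeGroup.of, FreeGroup.mul_mk]
    exact (congrArg φ h).trans (map_one φ)
  have hrels : ∀ r ∈ RQ, FreeGroup.lift f r = 1 := by
    intro r hr
    obtain ⟨l, hl, rfl⟩ := List.mem_map.1 hr
    rcases RLQ_cases hl with hl | ⟨W, x, hW, rfl⟩
    · obtain ⟨m, hm, rfl⟩ := List.mem_map.1 hl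
      have hcomp : (FreeGroup.lift f).comp (FreeGroup.map Top.ren) =
          φ.comp (PresentedGroup.mk (wordRels Top.relWords)) := FreeGroup.ext_hom _ _ fun i => by
        simp only [MonoidHom.comp_apply, FreeGroup.map.of, FreeGroup.lift_apply_of, hfdef]
        fin_cases i <;> rfl
      have := DFunLike.congr_fun hcomp (FreeGroup.mk m)
      simp only [MonoidHom.comp_apply, FreeGroup.map.mk] at this
      rw [this, show PresentedGroup.mk (wordRels Top.relWords) (FreeGroup.mk m) = 1 from
        PresentedGroup.one_of_mem (List.mem_map_of_mem hm), map_one]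
    · refine (lift_com hsq W x).2 ?_
      rcases hW with rfl | rfl
      · exact hcomm x
      · rw [hS]; exact Commute.one_left _
  refine ⟨PresentedGroup.toGroup hrels, ?_⟩
  rw [lift_mk_eq (PresentedGroup.toGroup hrels) (fun x => PresentedGroup.toGroup.of hrels)]
  have : Fact (Nat.Prime 2) := ⟨Nat.prime_two⟩
  rw [← orderOf_inv]
  refine orderOf_eq_prime ?_ fun h => ?_
  · refine Equiv.ext fun c => Fin.ext ?_
    rw [pow_two, Equiv.Perm.mul_apply, hU, hU, Equiv.Perm.one_apply]
    have := hchk c (hn ▸ c.isLt)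
    simp only [checkDeck, Bool.and_eq_true] at this
    exact Nat.eq_of_beq_eq_true this.2.1
  · have h0 := hU ⟨0, by rw [hn]; norm_num⟩
    rw [h, Equiv.Perm.one_apply] at h0
    exact absurd h0 (show ¬ (0 = deck 0) by decide +kernel)

end Cfsg.Agent.Fi22Mult
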