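import Cfsg.Agent.Fi22Mult.Lift
import Cfsg.Agent.Fi22Mult.Three
import Cfsg.Agent.Fi22Mult.TwoHom
import Cfsg.Agent.Fi23Mult.E7.Main
import Cfsg.Agent.Fi23Mult.W28.Main
import Cfsg.Agent.Fi23Mult.W27.Main
import Cfsg.Agent.Fi23Mult.W16.Main
import Cfsg.Agent.Fi23Mult.W5.Main
import Cfsg.Agent.Fi23Mult.W4.Main
import Cfsg.Agent.Fi23Mult.W3.Main
import Cfsg.Agent.Fi23Mult.W2.Main
import Cfsg.Agent.ProjExt.Stem
import Cfsg.Agent.ProjExt.Schur

/-!
# The Schur multiplier of Fi22 is cyclic of order 6

The presented cover has order at most `6 * |Fi22|` by a chain of coset tables, a permutation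
representation gives its kernel an element of order 2 and a linear one an element of order 3.
-/

set_option autoImplicit false
set_option maxRecDepth 100000
set_option maxHeartbeats 2000000

namespace Cfsg.Agent.Fi22Mult

open Cfsg.Spor Cfsg.Agent.CosetCert

/-- The generators of Fi23 other than `j` as generators of Fi22. -/
def toFi22 : Fi23.Gen → Fi22.Gen
  | .a => .a | .b => .b | .c => .c | .d => .d | .e => .e | .f => .f
  | .g => .g | .j => .a | .h => .h | .i => .i

theorem rel_ok {K : ℕ} (f : Fin K → Fi22.Gen) (RL : List (List (Fin K × Bool)))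
    (h : (RL.all fun l => decide (l.map (fun a => (f a.1, a.2)) ∈ RLQ)) = true) :
    ∀ l ∈ RL, PresentedGroup.mk RQ (FreeGroup.mk (l.map fun a => (f a.1, a.2))) = 1 :=
  fun l hl => PresentedGroup.one_of_mem
    (List.mem_map_of_mem (of_decide_eq_true (List.all_eq_true.1 h l hl)))

theorem card_bound : Finite (PresentedGroup RQ) ∧
    Nat.card (PresentedGroup RQ) ≤ 387370509926400 := by
  have h0 := letterSub_nil_card RQ
  have h2 := letterSub_card_le (fun x => toFi22 (Fi23Mult.W2.ren x)) (List.finRange 1)
    Fi23Mult.W2.subLetters [] rfl List.mem_finRange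
    (rel_ok (fun x => toFi22 (Fi23Mult.W2.ren x)) Fi23Mult.W2.relWords (by decide +kernel)) Fi23Mult.W2.index_bound h0
  have h3 := letterSub_card_le (fun x => toFi22 (Fi23Mult.W3.ren x)) (List.finRange 2)
    Fi23Mult.W3.subLetters _ (by decide +kernel) List.mem_finRange
    (rel_ok (fun x => toFi22 (Fi23Mult.W3.ren x)) Fi23Mult.W3.relWords (by decide +kernel)) Fi23Mult.W3.index_bound h2
  have h4 := letterSub_card_le (fun x => toFi22 (Fi23Mult.W4.ren x)) (List.finRange 3)
    Fi23Mult.W4.subLetters _ (by decide +kernel) List.mem_finRange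
    (rel_ok (fun x => toFi22 (Fi23Mult.W4.ren x)) Fi23Mult.W4.relWords (by decide +kernel)) Fi23Mult.W4.index_bound h3
  have h5 := letterSub_card_le (fun x => toFi22 (Fi23Mult.W5.ren x)) (List.finRange 4)
    Fi23Mult.W5.subLetters _ (by decide +kernel) List.mem_finRange
    (rel_ok (fun x => toFi22 (Fi23Mult.W5.ren x)) Fi23Mult.W5.relWords (by decide +kernel)) Fi23Mult.W5.index_bound h4
  have h16 := letterSub_card_le (fun x => toFi22 (Fi23Mult.W16.ren x)) (List.finRange 5)
    Fi23Mult.W16.subLetters _ (by decide +kernel) List.mem_finRange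
    (rel_ok (fun x => toFi22 (Fi23Mult.W16.ren x)) Fi23Mult.W16.relWords (by decide +kernel)) Fi23Mult.W16.index_bound h5
  have h27 := letterSub_card_le (fun x => toFi22 (Fi23Mult.W27.ren x)) (List.finRange 6)
    Fi23Mult.W27.subLetters _ (by decide +kernel) List.mem_finRange
    (rel_ok (fun x => toFi22 (Fi23Mult.W27.ren x)) Fi23Mult.W27.relWords (by decide +kernel)) Fi23Mult.W27.index_bound h16
  have h28 := letterSub_card_le (fun x => toFi22 (Fi23Mult.W28.ren x)) (List.finRange 7)
    Fi23Mult.W28.subLetters _ (by decide +kernel) List.mem_finRange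
    (rel_ok (fun x => toFi22 (Fi23Mult.W28.ren x)) Fi23Mult.W28.relWords (by decide +kernel)) Fi23Mult.W28.index_bound h27
  have h8 := letterSub_card_le (fun x => toFi22 (Fi23Mult.E7.ren x)) (List.finRange 8)
    Fi23Mult.E7.subLetters _ (by decide +kernel) List.mem_finRange
    (rel_ok (fun x => toFi22 (Fi23Mult.E7.ren x)) Fi23Mult.E7.relWords (by decide +kernel)) Fi23Mult.E7.index_bound h28
  have h9 := letterSub_card_le Top.ren (List.finRange 9) Top.subLetters _ (by decide +kernel)
    List.mem_finRange (rel_ok Top.ren Top.relWords (by decide +kernel)) Top.index_bound h8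
  rw [letterSub_full _ fun b => List.mem_map.2 ⟨num b, List.mem_finRange _, ren_num b⟩] at h9
  obtain ⟨hf, hc⟩ := h9
  rw [Nat.card_congr Subgroup.topEquiv.toEquiv] at hc
  exact ⟨Finite.of_equiv _ Subgroup.topEquiv.toEquiv, hc.trans (by decide +kernel)⟩

theorem RL0_fi22 (l : List (Fi22.Gen × Bool)) (hl : l ∈ RL0) :
    PresentedGroup.mk rels22 (FreeGroup.mk l) = 1 ∨
      l = comWord UW .i := by
  have h : (RL0.all fun l => decide (l ∈ coxWords Fi22U62.genList Fi22.edges Fi22.extra ∨
      l = comWord UW .i)) = true := by decide +kernel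
  exact (of_decide_eq_true (List.all_eq_true.1 h l hl)).imp_left (Fi22Order.rels_ok l)

theorem proj_rels : ∀ r ∈ RQ,
    FreeGroup.lift (fun x => (PresentedGroup.of x : Fi22)) r = 1 := by
  have hlift : FreeGroup.lift (fun x => (PresentedGroup.of x : Fi22)) = PresentedGroup.mk rels22 :=
    FreeGroup.ext_hom _ _ fun y => by simp [PresentedGroup.of]
  have hcom : ∀ W x, (W = UW ∨ W = SW) →
      FreeGroup.lift (fun x => (PresentedGroup.of x : Fi22)) (FreeGroup.mk (comWord W x)) = 1 := by
    intro W x hW
    refine (lift_com G_sq W x).2 ?_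
    rw [← lift_sgn, hlift]
    rcases hW with rfl | rfl
    · rw [G_word_U]; exact Commute.one_left _
    · rw [G_word_S]; exact Commute.one_left _
  intro r hr
  obtain ⟨l, hl, rfl⟩ := List.mem_map.1 hr
  rcases RLQ_cases hl with hl | ⟨W, x, hW, rfl⟩
  · rcases RL0_fi22 l hl with h | rfl
    · rw [hlift]; exact h
    · exact hcom UW .i (Or.inl rfl)
  · exact hcom W x hW

/-- The covering map. -/
noncomputable def cover : PresentedGroup RQ →* Fi22 := PresentedGroup.toGroup proj_rels

theorem cover_of (x : Fi22.Gen) : cover (PresentedGroup.of x) = PresentedGroup.of x :=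
  PresentedGroup.toGroup.of proj_rels

/-- The image in the cover of the second E7 word. -/
noncomputable abbrev uQ : PresentedGroup RQ := PresentedGroup.mk RQ (FreeGroup.mk (sgn UW))

/-- The image in the cover of the spider word. -/
noncomputable abbrev sQ : PresentedGroup RQ := PresentedGroup.mk RQ (FreeGroup.mk (sgn SW))

theorem cover_surjective : Function.Surjective cover := by
  rw [← MonoidHom.range_eq_top, eq_top_iff, ← PresentedGroup.closure_range_of, Subgroup.closure_le]
  rintro _ ⟨x, rfl⟩
  exact ⟨_, cover_of x⟩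

theorem cover_word (W : List Fi22.Gen) :
    cover (PresentedGroup.mk RQ (FreeGroup.mk (sgn W))) =
      PresentedGroup.mk rels22 (FreeGroup.mk (sgn W)) := by
  rw [lift_mk_eq cover cover_of, mk_sgn]
  rfl

theorem uQ_mem : uQ ∈ cover.ker := by rw [MonoidHom.mem_ker, cover_word, G_word_U]

theorem sQ_mem : sQ ∈ cover.ker := by rw [MonoidHom.mem_ker, cover_word, G_word_S]

theorem ker_le_center : cover.ker ≤ Subgroup.center (PresentedGroup RQ) := by
  let N : Subgroup (PresentedGroup RQ) := Subgroup.center _
  have hr : ∀ r ∈ rels22, FreeGroup.lift (fun x => ((PresentedGroup.of x : PresentedGroup RQ) :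
      PresentedGroup RQ ⧸ N)) r = 1 := by
    have hcomp : FreeGroup.lift (fun x => ((PresentedGroup.of x : PresentedGroup RQ) :
        PresentedGroup RQ ⧸ N)) = (QuotientGroup.mk' N).comp (PresentedGroup.mk RQ) :=
      FreeGroup.ext_hom _ _ fun y => by simp [PresentedGroup.of]
    intro r hr
    have hmem := Fi22U62.spells.rels_mem hr
    have hle : Subgroup.normalClosure {r | r ∈ (coxWords Fi22U62.genList Fi22.edges Fi22.extra).map
        FreeGroup.mk} ≤ ((QuotientGroup.mk' N).comp (PresentedGroup.mk RQ)).ker := by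
      apply Subgroup.normalClosure_le_normal
      intro s hs
      obtain ⟨l, hl, rfl⟩ := List.mem_map.1 hs
      rw [SetLike.mem_coe, MonoidHom.mem_ker, MonoidHom.comp_apply, QuotientGroup.mk'_apply,
        QuotientGroup.eq_one_iff]
      have h : ((coxWords Fi22U62.genList Fi22.edges Fi22.extra).all fun l =>
          decide (l ∈ RLQ ∨ l = sgn UW ∨ l = sgn SW)) = true := by decide +kernel
      rcases of_decide_eq_true (List.all_eq_true.1 h l hl) with h | rfl | rfl
      · rw [show PresentedGroup.mk RQ (FreeGroup.mk l) = 1 from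
          PresentedGroup.one_of_mem (List.mem_map_of_mem h)]
        exact one_mem _
      · exact Q_central (Or.inl rfl)
      · exact Q_central (Or.inr rfl)
    rw [hcomp]
    exact hle hmem
  let back : Fi22 →* PresentedGroup RQ ⧸ N := PresentedGroup.toGroup hr
  have hback : back.comp cover = QuotientGroup.mk' N := PresentedGroup.ext fun x => by
    rw [MonoidHom.comp_apply, cover_of]
    exact PresentedGroup.toGroup.of hr
  intro g hg
  rw [← QuotientGroup.eq_one_iff (N := N), ← QuotientGroup.mk'_apply, ← hback,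
    MonoidHom.comp_apply, MonoidHom.mem_ker.1 hg, map_one]

theorem commutator_eq_top : commutator (PresentedGroup RQ) = ⊤ := by
  let q : Fi22.Gen → Abelianization (PresentedGroup RQ) :=
    fun x => Abelianization.of (PresentedGroup.of x)
  have hsq : ∀ x, q x * q x = 1 := fun x => by rw [← map_mul, Q_sq, map_one]
  have hmk : ∀ l, sgn l ∈ RLQ → (l.map q).prod = 1 := fun l hl => by
    rw [← lift_mk_eq (Abelianization.of : PresentedGroup RQ →* _) (fun _ => rfl) l,
      show PresentedGroup.mk RQ (FreeGroup.mk (sgn l)) = 1 from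
        PresentedGroup.one_of_mem (List.mem_map_of_mem hl), map_one]
  have hedge : ∀ x y, sgn [x, y, x, y, x, y] ∈ RLQ → q x = q y := by
    intro x y h
    have := hmk _ h
    simp only [List.map_cons, List.map_nil, List.prod_cons, List.prod_nil, mul_one] at this
    have e : q x * q y = 1 := by
      calc q x * q y = q x * q y * ((q x * q x) * (q y * q y)) := by
            rw [hsq, hsq, mul_one, mul_one]
        _ = q x * (q y * (q x * (q y * (q x * q y)))) := by
            simp only [mul_comm, mul_left_comm]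
        _ = 1 := this
    calc q x = q x * (q y * q y) := by rw [hsq, mul_one]
      _ = q y := by rw [← mul_assoc, e, one_mul]
  have hb : q .b = q .a := (hedge .a .b (by decide +kernel)).symm
  have hc : q .c = q .a := (hedge .b .c (by decide +kernel)).symm.trans hb
  have hd : q .d = q .a := (hedge .c .d (by decide +kernel)).symm.trans hc
  have he : q .e = q .a := (hedge .d .e (by decide +kernel)).symm.trans hd
  have hf : q .f = q .a := (hedge .e .f (by decide +kernel)).symm.trans he
  have hg : q .g = q .a := (hedge .f .g (by decide +kernel)).symm.trans hf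
  have hh : q .h = q .a := (hedge .d .h (by decide +kernel)).symm.trans hd
  have hi : q .i = q .a := (hedge .h .i (by decide +kernel)).symm.trans hh
  have hall : q = fun _ => q .a := funext fun x => by cases x <;> first | rfl | assumption
  have hA := hmk AW (by decide +kernel)
  rw [hall, List.map_const', List.prod_replicate, show AW.length = 2 * 31 + 1 from rfl, pow_succ,
    pow_mul, pow_two, hsq, one_pow, one_mul] at hA
  rw [← Abelianization.ker_of, MonoidHom.ker_eq_top_iff]
  exact PresentedGroup.ext fun x => by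
    show q x = 1
    rw [hall]; exact hA

theorem ker_cover : ∃ z ∈ cover.ker, cover.ker ≤ Subgroup.zpowers z ∧ orderOf z = 6 := by
  obtain ⟨hfin, hle⟩ := card_bound
  have hG : Nat.card Fi22 = 64561751654400 := Fi22Order.order_and_simple.2
  obtain ⟨θ, hθ⟩ := exists_two
  have h2 : 2 ∣ orderOf uQ := hθ ▸ orderOf_map_dvd θ uQ
  have h3 : 3 ∣ orderOf sQ := toThree_SW ▸ orderOf_map_dvd toThree sQ
  have hcard : Nat.card cover.ker * 64561751654400 = Nat.card (PresentedGroup RQ) := by
    rw [← hG, ← cover.ker.card_mul_index, Subgroup.index_ker,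
      MonoidHom.range_eq_top.2 cover_surjective, Nat.card_congr Subgroup.topEquiv.toEquiv]
  have hdu : orderOf uQ ∣ Nat.card cover.ker := Subgroup.orderOf_dvd_natCard cover.ker uQ_mem
  have hds : orderOf sQ ∣ Nat.card cover.ker := Subgroup.orderOf_dvd_natCard cover.ker sQ_mem
  have h6 : 6 ∣ Nat.card cover.ker :=
    (Nat.Coprime.mul_dvd_of_dvd_of_dvd (by norm_num : Nat.Coprime 2 3)
      (h2.trans hdu) (h3.trans hds))
  have hk : Nat.card cover.ker = 6 := by
    have hpos : 0 < Nat.card cover.ker := Nat.card_pos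
    have h : Nat.card cover.ker ≤ 6 := by
      refine Nat.le_of_mul_le_mul_right (c := 64561751654400) ?_ (Nat.succ_pos _)
      rw [hcard]
      exact hle.trans (Nat.le_of_eq (by norm_num))
    exact le_antisymm h (Nat.le_of_dvd hpos h6)
  obtain ⟨a, hadef⟩ : ∃ a, a = uQ ^ (orderOf uQ / 2) := ⟨_, rfl⟩
  obtain ⟨b, hbdef⟩ : ∃ b, b = sQ ^ (orderOf sQ / 3) := ⟨_, rfl⟩
  have hpu : orderOf uQ ≠ 0 := fun h => by rw [h, hk] at hdu; norm_num at hdu
  have hps : orderOf sQ ≠ 0 := fun h => by rw [h, hk] at hds; norm_num at hds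
  have ha : orderOf a = 2 := hadef ▸ orderOf_pow_orderOf_div hpu h2
  have hb : orderOf b = 3 := hbdef ▸ orderOf_pow_orderOf_div hps h3
  have ham : a ∈ cover.ker := hadef ▸ pow_mem uQ_mem _
  have hbm : b ∈ cover.ker := hbdef ▸ pow_mem sQ_mem _
  have hab : Commute a b := (Subgroup.mem_center_iff.1 (ker_le_center hbm) a)
  have ho : orderOf (a * b) = 6 := by
    rw [hab.orderOf_mul_eq_mul_orderOf_of_coprime (by rw [ha, hb]; norm_num), ha, hb]
  refine ⟨a * b, mul_mem ham hbm, ?_, ho⟩
  have heq : Subgroup.zpowers (a * b) = cover.ker := by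
    refine Subgroup.eq_of_le_of_card_ge (Subgroup.zpowers_le.2 (mul_mem ham hbm)) ?_
    rw [hk, Nat.card_zpowers, ho]
  exact heq.ge

theorem multiplier : Cfsg.HasCyclicSchurMultiplier Fi22 6 := by
  obtain ⟨hfin, -⟩ := card_bound
  obtain ⟨z, hz, hzK, ho⟩ := ker_cover
  have hker : cover.ker = Subgroup.zpowers z := le_antisymm hzK (Subgroup.zpowers_le.2 hz)
  have hcard : Nat.card cover.ker = 6 := by rw [hker, Nat.card_zpowers, ho]
  have hcyc : IsCyclic cover.ker := hker ▸ inferInstance
  refine ProjExt.Stem.hasCyclicSchurMultiplier_of cover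
    ⟨cover_surjective, ker_le_center, by rw [commutator_eq_top]; exact le_top⟩
    ((zmodCyclicMulEquiv hcyc).symm.trans
      (MulEquiv.cast (M := fun n => Multiplicative (ZMod n)) hcard)) ?_
  intro Γ _ _ σ hσ
  obtain ⟨hs, hc, hcom⟩ := hσ
  obtain ⟨L, hsigma, hrel, hA⟩ := exists_lift hs hc
  have hsq : ∀ x, L x * L x = 1 := fun x => by
    have := hrel x x; rwa [show lab x x = 1 by simp [lab, coxLabel], pow_one] at this
  have hr : ∀ r ∈ RQ, FreeGroup.lift L r = 1 := by
    intro r hr
    obtain ⟨l, hl, rfl⟩ := List.mem_map.1 hr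
    have hcw : ∀ W x, (W = UW ∨ W = SW) →
        FreeGroup.lift L (FreeGroup.mk (comWord W x)) = 1 := by
      intro W x hW
      refine (lift_com hsq W x).2 ?_
      have hW1 : (W.map L).prod ∈ σ.ker := by
        rw [MonoidHom.mem_ker, sigma_prod σ hsigma]
        rcases hW with rfl | rfl
        · exact G_word_U
        · exact G_word_S
      exact (Subgroup.mem_center_iff.1 (hc hW1) (L x)).symm
    rcases RLQ_cases hl with hl | ⟨W, x, hW, rfl⟩
    · have h : (RL0.all fun l => decide (l ∈ (pairsOf genList).map (fun p =>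
          powPair p.1 p.2 (lab p.1 p.2)) ∨ l = sgn AW ∨ l = comWord UW .i)) = true := by
        decide +kernel
      rcases of_decide_eq_true (List.all_eq_true.1 h l hl) with h | rfl | rfl
      · obtain ⟨p, -, rfl⟩ := List.mem_map.1 h
        rw [mk_powPair, map_pow, map_mul, FreeGroup.lift_apply_of, FreeGroup.lift_apply_of]
        exact hrel p.1 p.2
      · rw [lift_sgn, hA]
      · exact hcw UW .i (Or.inl rfl)
    · exact hcw W x hW
  let ψ : PresentedGroup RQ →* Γ := PresentedGroup.toGroup hr
  have hψ : ∀ g, σ (ψ g) = cover g := by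
    have : σ.comp ψ = cover := PresentedGroup.ext fun x => by
      rw [MonoidHom.comp_apply, cover_of, PresentedGroup.toGroup.of, hsigma]
    exact fun g => DFunLike.congr_fun this g
  refine ⟨ψ z, by rw [MonoidHom.mem_ker, hψ]; exact hz, ?_, ?_⟩
  · intro x hx
    have hψs : Function.Surjective (σ.comp ψ) := by
      intro y
      obtain ⟨g, hg⟩ := cover_surjective y
      exact ⟨g, (hψ g).trans hg⟩
    obtain ⟨g, -, rfl⟩ := ProjExt.Schur.commutator_le_range ψ hc hψs (hcom hx)
    rw [MonoidHom.mem_ker, hψ] at hx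
    obtain ⟨j, rfl⟩ := hzK (MonoidHom.mem_ker.2 hx)
    exact ⟨j, (map_zpow ψ z j).symm⟩
  · rw [← map_pow, ← ho, pow_orderOf_eq_one, map_one]

end Cfsg.Agent.Fi22Mult
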