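import Cfsg.Agent.Fi22Mult.Cover
import Cfsg.Agent.Fi22Mult.Top.Main
import Cfsg.Agent.Fi22Mult.Top.DeckData

/-!
# A permutation representation in which the second E7 word has order two
-/

set_option autoImplicit false
set_option maxRecDepth 100000
set_option maxHeartbeats 2000000

namespace Cfsg.Agent.Fi22Mult

open Cfsg.Spor Cfsg.Agent.CosetCert

/-- The number of a generator. -/
def num : Fi22.Gen → Fin 9
  | .a => 0 | .b => 1 | .c => 2 | .d => 3 | .e => 4 | .f => 5 | .g => 6 | .h => 7 | .i => 8

theorem ren_num (x : Fi22.Gen) : Top.ren (num x) = x := by cases x <;> rfl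

/-- The permutation of the second E7 word. -/
noncomputable def deck (c : Nat) : Nat := get48 Top.deckStore c

/-- The code of a word. -/
noncomputable def codeW (W : List Fi22.Gen) : List Nat :=
  (sgn (W.map num)).map (Data.code Top.data.iv Top.enc)

/-- The check at a point that does not involve the table's relators. -/
noncomputable def checkDeck (c : Nat) : Bool :=
  Nat.beq (Top.data.fwd (codeW UW) c) (deck c) && (Nat.beq (deck (deck c)) c &&
  (Nat.beq (Top.data.fwd (codeW SW) c) c &&
  ((List.range 9).all fun x => Nat.beq (deck (Top.data.T c x)) (Top.data.T (deck c) x))))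

end Cfsg.Agent.Fi22Mult
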